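import Groth.Agent.Lib.RigidRel.Approx
import Mathlib.RingTheory.Unramified.Finite
import Mathlib.LinearAlgebra.Vandermonde
import Mathlib.FieldTheory.IsAlgClosed.AlgebraicClosure
import Mathlib.LinearAlgebra.LinearIndependent.Basic
import Mathlib.RingTheory.Flat.FaithfullyFlat.Basic
import Mathlib.RingTheory.Invariant.Basic
import Groth.Prelude.Def_SGA1t

/-!
# Galois algebras for `ℤ/p` in characteristic `p`
-/

universe u

set_option autoImplicit false

open scoped TensorProduct
open Polynomial

namespace Groth.Agent.ASTorsor3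

variable {A B : Type u} [CommRing A] [CommRing B] [Algebra A B] {p : ℕ} [Fact p.Prime] [CharP A p]
  (σ : ZMod p → (B →ₐ[A] B)) (hσ0 : ∀ b, σ 0 b = b) (hσadd : ∀ i j b, σ (i + j) b = σ i (σ j b))
  (hfree : ∀ (Ω : Type u) [Field Ω] [IsAlgClosed Ω] (χ χ' : B →+* Ω),
    χ.comp (algebraMap A B) = χ'.comp (algebraMap A B) → ∃! j : ZMod p, χ' = χ.comp (σ j).toRingHom)

/-- The prime field in `A`. -/
noncomputable abbrev cst : ZMod p →+* A := ZMod.castHom (dvd_refl p) A

/-- The comparison map of a Galois algebra. -/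
noncomputable def galMap : B ⊗[A] B →ₐ[A] (ZMod p → B) :=
  Algebra.TensorProduct.lift (Pi.algHom A _ fun _ => AlgHom.id A B) (Pi.algHom A _ σ)
    fun _ _ => Commute.all _ _

theorem galMap_tmul (b c : B) (j : ZMod p) : galMap σ (b ⊗ₜ c) j = b * σ j c := by
  simp [galMap, Pi.algHom]

/-- Projection to a component. -/
noncomputable def galProj (j : ZMod p) : B ⊗[A] B →ₐ[A] B := (Pi.evalAlgHom A _ j).comp (galMap σ)

theorem galProj_tmul (b c : B) (j : ZMod p) : galProj σ j (b ⊗ₜ c) = b * σ j c := galMap_tmul σ b c j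

include hσ0 hσadd hfree in
/-- The comparison map is injective. -/
theorem galMap_injective [Algebra.FormallyUnramified A B] [Algebra.EssFiniteType A B] :
    Function.Injective (galMap σ) := by
  obtain ⟨t, ht, ht1⟩ := (Algebra.FormallyUnramified.iff_exists_tensorProduct (R := A) (S := B)).1 inferInstance
  let τ : ZMod p → (B ⊗[A] B →ₐ[A] B ⊗[A] B) := fun j =>
    Algebra.TensorProduct.map (AlgHom.id A B) (σ (-j))
  have hτ1 : ∀ j, galProj σ j (τ j t) = 1 := fun j => by
    have : (galProj σ j).comp (τ j) = Algebra.TensorProduct.lmul' A := by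
      refine Algebra.TensorProduct.ext' fun b c => ?_
      simp [τ, galProj_tmul, ← hσadd, hσ0]
    rw [← ht1, ← this]
    rfl
  have hkey : ∀ j z, z * τ j t = (galProj σ j z ⊗ₜ[A] (1 : B)) * τ j t := fun j z => by
    induction z using TensorProduct.induction_on with
    | zero => simp
    | add x y hx hy => rw [add_mul, hx, hy, map_add, TensorProduct.add_tmul, add_mul]
    | tmul b c =>
      have h := congrArg (τ j) (ht (σ j c))
      have h' : ((1 : B) ⊗ₜ[A] c - σ j c ⊗ₜ[A] (1 : B)) * τ j t = 0 := by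
        rw [map_mul, map_sub, map_zero] at h
        simpa [τ, ← hσadd, hσ0] using h
      rw [sub_mul, sub_eq_zero] at h'
      rw [galProj_tmul, show b ⊗ₜ[A] c = (b ⊗ₜ[A] (1 : B)) * ((1 : B) ⊗ₜ[A] c) by simp, mul_assoc, h',
        ← mul_assoc, Algebra.TensorProduct.tmul_mul_tmul, one_mul]
  refine (injective_iff_map_eq_zero (galMap σ)).2 fun x hx => ?_
  have hann : ∀ j, x * τ j t = 0 := fun j => by
    rw [hkey, show galProj σ j x = 0 from congrFun hx j, TensorProduct.zero_tmul, zero_mul]
  have htop : Ideal.span (Set.range fun j => τ j t) = ⊤ := by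
    by_contra hne
    obtain ⟨Q, hQ, hle⟩ := Ideal.exists_le_maximal _ hne
    let Ω := AlgebraicClosure Q.ResidueField
    let q : B ⊗[A] B →+* Ω := (algebraMap Q.ResidueField Ω).comp (algebraMap _ Q.ResidueField)
    let χ := q.comp (Algebra.TensorProduct.includeLeftRingHom (R := A) (A := B) (B := B))
    let χ' := q.comp (Algebra.TensorProduct.includeRight (R := A) (A := B) (B := B)).toRingHom
    obtain ⟨j, hj, -⟩ := hfree Ω χ χ' (RingHom.ext fun a => by
      simp [χ, χ', q, Algebra.TensorProduct.tmul_one_eq_one_tmul])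
    have hq : ∀ z, q z = χ (galProj σ j z) := fun z => by
      induction z using TensorProduct.induction_on with
      | zero => simp
      | add x y hx hy => rw [map_add, map_add, map_add, hx, hy]
      | tmul b c =>
        have h2 : χ' c = χ (σ j c) := congr($hj c)
        rw [galProj_tmul, show b ⊗ₜ[A] c = (b ⊗ₜ[A] (1 : B)) * ((1 : B) ⊗ₜ[A] c) by simp, map_mul, map_mul, ← h2]
        rfl
    have h0 : q (τ j t) = 0 := by
      show algebraMap Q.ResidueField Ω (algebraMap _ Q.ResidueField (τ j t)) = 0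
      rw [show algebraMap _ Q.ResidueField (τ j t) = 0 from
        Ideal.algebraMap_residueField_eq_zero.2 (hle (Ideal.subset_span ⟨j, rfl⟩)), map_zero]
    rw [hq, hτ1, map_one] at h0
    exact one_ne_zero h0
  have hann' : ∀ z ∈ Ideal.span (Set.range fun j => τ j t), x * z = 0 := fun z hz => by
    induction hz using Submodule.span_induction with
    | mem y hy => obtain ⟨j, rfl⟩ := hy; exact hann j
    | zero => rw [mul_zero]
    | add y z _ _ hy hz => rw [mul_add, hy, hz, add_zero]
    | smul c y _ hy => rw [smul_eq_mul, mul_left_comm, hy, mul_zero]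
  simpa using hann' 1 (htop ▸ Submodule.mem_top)

include hσ0 hσadd hfree in
/-- An element of trace one. -/
theorem exists_trace_one : ∃ θ : B, ∑ j, σ j θ = 1 := by
  classical
  let C : Subring B :=
    { carrier := {b | ∀ j, σ j b = b}
      mul_mem' := fun ha hb j => by rw [map_mul, ha j, hb j]
      one_mem' := fun j => map_one _
      add_mem' := fun ha hb j => by rw [map_add, ha j, hb j]
      zero_mem' := fun j => map_zero _
      neg_mem' := fun ha j => by rw [map_neg, ha j] }
  let tr : B → B := fun b => ∑ j, σ j b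
  have htr : ∀ b, tr b ∈ C := fun b i => by
    show σ i (∑ j, σ j b) = ∑ j, σ j b
    rw [map_sum]
    exact Fintype.sum_equiv (Equiv.addLeft i) _ _ fun j => (hσadd i j b).symm
  let J : Ideal C :=
    { carrier := {c | ∃ b, tr b = c.1}
      add_mem' := by
        rintro c d ⟨b, hb⟩ ⟨b', hb'⟩
        exact ⟨b + b', by simp [tr, map_add, Finset.sum_add_distrib, ← hb, ← hb']⟩
      zero_mem' := ⟨0, by simp [tr]⟩
      smul_mem' := by
        rintro c d ⟨b, hb⟩
        refine ⟨c.1 * b, ?_⟩
        show ∑ j, σ j (c.1 * b) = c.1 * d.1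
        rw [← hb, Finset.mul_sum]
        exact Finset.sum_congr rfl fun j _ => by rw [map_mul, c.2 j] }
  suffices J = ⊤ by
    obtain ⟨θ, hθ⟩ := (this ▸ Submodule.mem_top : (1 : C) ∈ J)
    exact ⟨θ, hθ⟩
  by_contra hne
  obtain ⟨m, hm, hle⟩ := Ideal.exists_le_maximal _ hne
  haveI : Algebra.IsIntegral C B := by
    let G := Multiplicative (ZMod p)
    letI : MulSemiringAction G B :=
      { smul := fun g b => σ g.toAdd b
        one_smul := fun b => hσ0 b
        mul_smul := fun g h b => hσadd g.toAdd h.toAdd b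
        smul_zero := fun g => map_zero _
        smul_add := fun g => map_add _
        smul_one := fun g => map_one _
        smul_mul := fun g => map_mul _ }
    haveI : Algebra.IsInvariant C B G := ⟨fun b hb => ⟨⟨b, fun j => hb (Multiplicative.ofAdd j)⟩, rfl⟩⟩
    exact Algebra.IsInvariant.isIntegral C B G
  obtain ⟨P, -, hP, hPm⟩ := Ideal.exists_ideal_over_prime_of_isIntegral (S := B) m (⊥ : Ideal B) (by
    rw [show Ideal.comap (algebraMap C B) ⊥ = RingHom.ker (algebraMap C B) from rfl,
      (RingHom.injective_iff_ker_eq_bot _).1 Subtype.val_injective]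
    exact bot_le)
  let Ω := AlgebraicClosure P.ResidueField
  let χ : B →+* Ω := (algebraMap P.ResidueField Ω).comp (algebraMap B P.ResidueField)
  let f : ZMod p → (B →* Ω) := fun j => (χ.comp (σ j).toRingHom).toMonoidHom
  have hf : Function.Injective f := fun i j hij => by
    have h' : χ.comp (σ i).toRingHom = χ.comp (σ j).toRingHom := RingHom.ext fun b => congr($hij b)
    exact (hfree Ω χ (χ.comp (σ i).toRingHom) (RingHom.ext fun a => by
      simp [AlgHom.commutes])).unique rfl h'
  have hli := (linearIndependent_monoidHom B Ω).comp f hf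
  rw [Fintype.linearIndependent_iff] at hli
  refine one_ne_zero (hli (fun _ => 1) (funext fun b => ?_) 0)
  have hb : χ (tr b) = 0 := by
    have h1 : (⟨tr b, htr b⟩ : C) ∈ m := hle ⟨b, rfl⟩
    rw [← hPm, Ideal.mem_comap] at h1
    show algebraMap P.ResidueField Ω (algebraMap B P.ResidueField (tr b)) = 0
    rw [show algebraMap B P.ResidueField (tr b) = 0 from Ideal.algebraMap_residueField_eq_zero.2 h1, map_zero]
  simpa [f, tr, map_sum] using hb

include hσ0 hσadd hfree in
/-- A `ℤ/p`-Galois algebra is an Artin–Schreier algebra. -/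
theorem exists_artinSchreier [Algebra.FormallyUnramified A B] [Algebra.EssFiniteType A B]
    [Module.FaithfullyFlat A B] :
    ∃ (a : A) (φ : SGA1t.artinSchreier A p a ≃ₐ[A] B), ∀ j z,
      φ (SGA1t.artinSchreierShift A p a j z) = σ j (φ z) := by
  classical
  obtain ⟨θ, hθ⟩ := exists_trace_one σ hσ0 hσadd hfree
  let c : ZMod p →+* B := (algebraMap A B).comp cst
  have hc : ∀ i j, σ i (c j) = c j := fun i j => AlgHom.commutes _ _
  let t : B := - ∑ j, c j * σ j θ
  have htσ : ∀ i, σ i t = t + c i := fun i => by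
    have h : ∑ j, c j * σ (i + j) θ = ∑ j, c j * σ j θ - c i := by
      rw [Fintype.sum_equiv (Equiv.addLeft i) (fun j => c j * σ (i + j) θ) (fun j => c (j - i) * σ j θ)
        (fun j => by simp)]
      simp [map_sub, sub_mul, Finset.sum_sub_distrib, ← Finset.mul_sum, hθ]
    simp only [t, map_neg, map_sum, map_mul, hc, ← hσadd, h]
    ring
  haveI : CharP B p := charP_of_injective_algebraMap (FaithfulSMul.algebraMap_injective A B) p
  have hinv : ∀ i, σ i (t ^ p - t) = t ^ p - t := fun i => by
    rw [map_sub, map_pow, htσ, add_pow_char, ← map_pow c, ZMod.pow_card]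
    ring
  have hΦ := galMap_injective σ hσ0 hσadd hfree
  obtain ⟨a, ha⟩ := RigidRel.exists_algebraMap_eq_of_tmul_comm (R := A) (t ^ p - t) (hΦ (funext fun j => by
    rw [galMap_tmul, galMap_tmul, map_one, mul_one, one_mul, hinv]))
  let f : A[X] := X ^ p - X - C a
  let φ₀ : SGA1t.artinSchreier A p a →ₐ[A] B := Ideal.Quotient.liftₐ _ (aeval t) fun g hg => by
    refine (Ideal.span_le (I := RingHom.ker (aeval (R := A) t))).2 ?_ hg
    rintro _ rfl
    simp [RingHom.mem_ker, ha]
  let T : SGA1t.artinSchreier A p a := Ideal.Quotient.mk _ X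
  have hφT : φ₀ T = t := by simp [φ₀, T]
  have hshift : ∀ j z, φ₀ (SGA1t.artinSchreierShift A p a j z) = σ j (φ₀ z) := fun j z => by
    obtain ⟨g, rfl⟩ := Ideal.Quotient.mk_surjective z
    show φ₀ (Ideal.Quotient.mk _ (aeval (X + C (cst j)) g)) = σ j (aeval t g)
    show aeval t (aeval (X + C (cst j)) g) = σ j (aeval t g)
    rw [← aeval_algHom_apply, ← aeval_algHom_apply, htσ]
    congr 1
    simp [c]
  -- bijectivity after tensoring with `B`
  let M : Matrix (ZMod p) (Fin p) B := fun j k => (t + c j) ^ (k : ℕ)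
  let e : Fin p ≃ ZMod p := (ZMod.finEquiv p).toEquiv
  have hM : IsUnit (Matrix.vandermonde fun i => t + c (e i)).det := by
    rw [Matrix.det_vandermonde]
    refine IsUnit.prod_iff.2 fun i _ => IsUnit.prod_iff.2 fun j hj => ?_
    rw [add_sub_add_left_eq_sub, ← map_sub]
    refine RingHom.isUnit_map c (sub_ne_zero.2 fun h => ?_).isUnit
    exact (Finset.mem_Ioi.1 hj).ne' (e.injective h)
  have hspan : ∀ z : B ⊗[A] SGA1t.artinSchreier A p a, ∃ b : Fin p → B, z = ∑ k, b k ⊗ₜ[A] (T ^ (k : ℕ)) := by
    intro z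
    induction z using TensorProduct.induction_on with
    | zero => exact ⟨0, by simp⟩
    | add x y hx hy =>
      obtain ⟨b, rfl⟩ := hx
      obtain ⟨b', rfl⟩ := hy
      exact ⟨b + b', by simp [TensorProduct.add_tmul, Finset.sum_add_distrib]⟩
    | tmul b g =>
      obtain ⟨g, rfl⟩ := Ideal.Quotient.mk_surjective g
      have hmon : f.Monic := by
        rw [show f = X ^ p - (X + C a) from sub_sub _ _ _]
        refine monic_X_pow_sub ?_
        exact (degree_add_le _ _).trans_lt (max_lt (degree_X_le.trans_lt (by exact_mod_cast (Fact.out : p.Prime).one_lt))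
          (lt_of_le_of_lt degree_C_le (by simpa using (Fact.out : p.Prime).pos)))
      haveI : Nontrivial A := CharP.nontrivial_of_char_ne_one (R := A) (Fact.out : p.Prime).ne_one
      have hdeg : (g %ₘ f).natDegree < p := by
        have hfd : f.natDegree = p := by
          show (X ^ p - X - C a).natDegree = p
          rw [natDegree_sub_C, natDegree_sub_eq_left_of_natDegree_lt (by
            rw [natDegree_X_pow, natDegree_X]; exact (Fact.out : p.Prime).one_lt), natDegree_X_pow]
        exact hfd ▸ natDegree_modByMonic_lt g hmon (fun h1 => by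
          rw [h1, natDegree_one] at hfd; exact (Fact.out : p.Prime).pos.ne hfd)
      have hg : (Ideal.Quotient.mk _ g : SGA1t.artinSchreier A p a) = Ideal.Quotient.mk _ (g %ₘ f) := by
        rw [Ideal.Quotient.eq, Ideal.mem_span_singleton]
        exact ⟨g /ₘ f, by rw [eq_sub_iff_add_eq.2 (modByMonic_add_div g f)]; ring⟩
      refine ⟨fun k => (g %ₘ f).coeff k • b, ?_⟩
      rw [hg]
      conv_lhs => rw [(g %ₘ f).as_sum_range_C_mul_X_pow' hdeg]
      rw [map_sum, TensorProduct.tmul_sum, Finset.sum_range]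
      refine Finset.sum_congr rfl fun k _ => ?_
      rw [TensorProduct.smul_tmul, map_mul, map_pow]
      refine congrArg (b ⊗ₜ[A] ·) ?_
      exact (Algebra.smul_def ((g %ₘ f).coeff (k : ℕ)) (T ^ (k : ℕ))).symm
  let Ψ := (galMap σ).comp (Algebra.TensorProduct.map (AlgHom.id A B) φ₀)
  have hΨ : ∀ b : Fin p → B, ∀ i, Ψ (∑ k, b k ⊗ₜ[A] (T ^ (k : ℕ))) (e i) =
      (Matrix.vandermonde fun i => t + c (e i)).mulVec b i := fun b i => by
    simp [Ψ, galMap_tmul, hφT, htσ, Matrix.mulVec, dotProduct, Matrix.vandermonde, mul_comm]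
  have hbij : Function.Bijective Ψ := by
    let V := Matrix.vandermonde fun i => t + c (e i)
    have hdet : Function.Bijective V.mulVec := Function.bijective_iff_has_inverse.2 ⟨V⁻¹.mulVec,
      fun x => by rw [Matrix.mulVec_mulVec, Matrix.nonsing_inv_mul _ hM, Matrix.one_mulVec],
      fun x => by rw [Matrix.mulVec_mulVec, Matrix.mul_nonsing_inv _ hM, Matrix.one_mulVec]⟩
    refine ⟨(injective_iff_map_eq_zero Ψ).2 fun z hz => ?_, fun w => ?_⟩
    · obtain ⟨b, rfl⟩ := hspan z
      have : b = 0 := hdet.1 (funext fun i => by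
        rw [Matrix.mulVec_zero, ← hΨ, hz]; rfl)
      simp [this]
    · obtain ⟨b, hb⟩ := hdet.2 fun i => w (e i)
      exact ⟨∑ k, b k ⊗ₜ[A] (T ^ (k : ℕ)), funext fun j => by
        obtain ⟨i, rfl⟩ := e.surjective j
        rw [hΨ, hb]⟩
  have h2 : Function.Bijective (Algebra.TensorProduct.map (AlgHom.id A B) φ₀) := by
    refine ⟨fun x y h => hbij.1 (congrArg (galMap σ) h), fun w => ?_⟩
    obtain ⟨z, hz⟩ := hbij.2 (galMap σ w)
    exact ⟨z, hΦ hz⟩
  have h3 : Function.Bijective φ₀ := (Module.FaithfullyFlat.lTensor_bijective_iff_bijective A B φ₀.toLinearMap).1 h2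
  exact ⟨a, AlgEquiv.ofBijective φ₀ h3, hshift⟩

end Groth.Agent.ASTorsor3
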